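import Mathlib
import Groth.Agent.H8Props.FieldDimHeight

/-!
Cotangent space at a maximal ideal and dimension of irreducible affine algebras (helper25).
-/

set_option autoImplicit false
universe u

open IsLocalRing TensorProduct

namespace Groth.Agent.H25SmVar

theorem finrank_eq_of_equiv_equiv {R R' M M' : Type u} [Semiring R] [Semiring R'] [AddCommMonoid M]
    [AddCommMonoid M'] [Module R M] [Module R' M'] (i : R → R') (j : M ≃+ M')
    (hi : Function.Bijective i) (hc : ∀ (r : R) (m : M), j (r • m) = i r • j m) :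
    Module.finrank R M = Module.finrank R' M' :=
  congr_arg Cardinal.toNat (rank_eq_of_equiv_equiv i j hi hc)

/-- `m/m²` computes the cotangent space of the localization at a maximal ideal `m`. -/
theorem finrank_cotangentSpace_localization (A : Type u) [CommRing A] (m : Ideal A) [m.IsMaximal] :
    Module.finrank (ResidueField (Localization.AtPrime m)) (CotangentSpace (Localization.AtPrime m))
      = Module.finrank (A ⧸ m) m.Cotangent := by
  set L := Localization.AtPrime m
  let J := maximalIdeal L
  have hle : m ≤ J.comap (IsScalarTower.toAlgHom A A L) := fun x hx =>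
    ((IsLocalization.AtPrime.to_map_mem_maximal_iff L m x) : _ ↔ _).mpr hx
  let φ : m.Cotangent →ₗ[A] J.Cotangent := Ideal.mapCotangent m J (IsScalarTower.toAlgHom A A L) hle
  have hφ : ∀ x : m, φ (m.toCotangent x) = J.toCotangent ⟨algebraMap A L x, hle x.2⟩ := fun x => rfl
  have hinv : ∀ s : A, s ∉ m → ∃ t, 1 - s * t ∈ m := fun s hs => by
    obtain ⟨t, i, hi, h⟩ := Ideal.IsMaximal.exists_inv ‹m.IsMaximal› hs
    exact ⟨t, by rw [← h]; convert hi using 1; ring⟩
  have hinj : Function.Injective φ := by
    rw [← LinearMap.ker_eq_bot, eq_bot_iff]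
    intro c hc
    obtain ⟨x, rfl⟩ := m.toCotangent_surjective c
    rw [LinearMap.mem_ker, hφ, Ideal.toCotangent_eq_zero] at hc
    change algebraMap A L x ∈ maximalIdeal L ^ 2 at hc
    rw [← IsLocalization.AtPrime.map_eq_maximalIdeal m L, ← Ideal.map_pow,
      IsLocalization.mem_map_algebraMap_iff m.primeCompl] at hc
    obtain ⟨⟨⟨y, hy⟩, ⟨s, hs⟩⟩, h⟩ := hc
    rw [← map_mul] at h
    obtain ⟨⟨c, hcm⟩, hc'⟩ := (IsLocalization.eq_iff_exists m.primeCompl L).mp h
    simp only at hc'
    obtain ⟨t, ht⟩ := hinv (c * s) (fun hh => (Ideal.IsPrime.mem_or_mem inferInstance hh).elim hcm hs)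
    rw [Submodule.mem_bot, Ideal.toCotangent_eq_zero,
      show (x : A) = t * (c * y) + (1 - c * s * t) * x by rw [← hc']; ring]
    exact add_mem (Ideal.mul_mem_left _ _ (Ideal.mul_mem_left _ _ hy))
      (by rw [pow_two]; exact Ideal.mul_mem_mul ht x.2)
  have hsurj : Function.Surjective φ := by
    intro c
    obtain ⟨⟨z, hz⟩, rfl⟩ := J.toCotangent_surjective c
    obtain ⟨⟨x, ⟨s, hs⟩⟩, h⟩ := IsLocalization.surj m.primeCompl z
    simp only at h
    have hx : x ∈ m := by
      rw [← IsLocalization.AtPrime.to_map_mem_maximal_iff L m x, ← h]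
      exact Ideal.mul_mem_right _ _ hz
    obtain ⟨t, ht⟩ := hinv s hs
    refine ⟨m.toCotangent ⟨t * x, Ideal.mul_mem_left _ _ hx⟩, ?_⟩
    rw [hφ, Ideal.toCotangent_eq]
    simp only [map_mul, ← h]
    rw [show algebraMap A L t * (z * algebraMap A L s) - z = -(algebraMap A L (1 - s * t) * z) by
      rw [map_sub, map_one, map_mul]; ring]
    refine neg_mem ?_
    rw [pow_two]
    exact Ideal.mul_mem_mul ((IsLocalization.AtPrime.to_map_mem_maximal_iff L m _).mpr ht) hz
  symm
  refine finrank_eq_of_equiv_equiv (IsLocalization.AtPrime.equivQuotMaximalIdeal m L)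
    (AddEquiv.ofBijective φ.toAddMonoidHom ⟨hinj, hsurj⟩) (RingEquiv.bijective _) ?_
  intro r c
  obtain ⟨a, rfl⟩ := Ideal.Quotient.mk_surjective r
  obtain ⟨x, rfl⟩ := m.toCotangent_surjective c
  show φ (Ideal.Quotient.mk m a • m.toCotangent x) = _ • φ (m.toCotangent x)
  rw [show (Ideal.Quotient.mk m a • m.toCotangent x) = a • m.toCotangent x from rfl, map_smul,
    IsLocalization.AtPrime.equivQuotMaximalIdeal_apply_mk]
  exact (IsScalarTower.algebraMap_smul L a _).symm

theorem ringKrullDim_quotient_nilradical (A : Type u) [CommRing A] :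
    ringKrullDim (A ⧸ nilradical A) = ringKrullDim A := by
  rw [ringKrullDim_quotient, ringKrullDim]
  have h : PrimeSpectrum.zeroLocus (R := A) (nilradical A) = Set.univ :=
    Set.eq_univ_of_forall fun p => (PrimeSpectrum.mem_zeroLocus p _).mpr fun x hx =>
      (Ideal.IsPrime.radical_le_iff p.isPrime).mpr bot_le hx
  exact Order.krullDim_eq_of_orderIso ((OrderIso.setCongr _ _ h).trans OrderIso.Set.univ)

variable (k : Type u) [Field k]

/-- All closed points of an irreducible affine `k`-scheme have height equal to the dimension. -/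
theorem le_ringKrullDim_localization (A : Type u) [CommRing A] [Algebra k A] [Algebra.FiniteType k A]
    (hirr : (nilradical A).IsPrime) (m : Ideal A) [m.IsMaximal] :
    ringKrullDim A ≤ ringKrullDim (Localization.AtPrime m) := by
  haveI := hirr
  set N := nilradical A
  haveI : IsDomain (A ⧸ N) := Ideal.Quotient.isDomain N
  haveI : Algebra.FiniteType k (A ⧸ N) :=
    Algebra.FiniteType.of_surjective (Ideal.Quotient.mkₐ k N) Ideal.Quotient.mk_surjective
  have hNm : N ≤ m := fun x hx => (Ideal.IsPrime.radical_le_iff inferInstance).mpr bot_le hx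
  let M := m.map (Ideal.Quotient.mk N)
  have hcomap : M.comap (Ideal.Quotient.mk N) = m := by
    rw [Ideal.comap_map_of_surjective _ Ideal.Quotient.mk_surjective, ← RingHom.ker_eq_comap_bot,
      Ideal.mk_ker, sup_eq_left.mpr hNm]
  haveI : M.IsMaximal := by
    rcases Ideal.map_eq_top_or_isMaximal_of_surjective (Ideal.Quotient.mk N) Ideal.Quotient.mk_surjective
      (I := m) inferInstance with h | h
    · exfalso
      apply Ideal.IsMaximal.ne_top ‹m.IsMaximal›
      rw [← hcomap, show M = ⊤ from h, Ideal.comap_top]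
    · exact h
  have h := Groth.Agent.H8Props.FieldDim.height_add_dim_quotient k (A ⧸ N) M
  letI : Field ((A ⧸ N) ⧸ M) := Ideal.Quotient.field M
  rw [ringKrullDim_quotient_nilradical, ringKrullDim_eq_zero_of_field, add_zero] at h
  rw [← h, IsLocalization.AtPrime.ringKrullDim_eq_height m, WithBot.coe_le_coe]
  let M' : PrimeSpectrum (A ⧸ N) := ⟨M, inferInstance⟩
  have hf : StrictMono (PrimeSpectrum.comap (Ideal.Quotient.mk N)) :=
    Monotone.strictMono_of_injective (fun p q hpq => Ideal.comap_mono hpq)
      (PrimeSpectrum.comap_injective_of_surjective _ Ideal.Quotient.mk_surjective)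
  have hM := Order.height_le_height_apply_of_strictMono _ hf M'
  have : PrimeSpectrum.comap (Ideal.Quotient.mk N) M' = ⟨m, inferInstance⟩ := PrimeSpectrum.ext hcomap
  rw [this] at hM
  rw [show M = M'.asIdeal from rfl, PrimeSpectrum.height_eq_orderHeight,
    show m = (⟨m, inferInstance⟩ : PrimeSpectrum A).asIdeal from rfl, PrimeSpectrum.height_eq_orderHeight]
  exact hM

end Groth.Agent.H25SmVar
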